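import Groth.Agent.Lib.FibGenSch4
import Mathlib.AlgebraicGeometry.Morphisms.Smooth
import Mathlib.RingTheory.Smooth.StandardSmoothCotangent

/-!
# Standard smooth charts inside prescribed affines, and their fibre dimension
-/

set_option autoImplicit false
open CategoryTheory CategoryTheory.Limits AlgebraicGeometry Opposite
universe u
open FlatMor

set_option backward.isDefEq.respectTransparency.types false

namespace Groth.Agent.StdSmooth5

theorem exists_relDim {R S : Type u} [CommRing R] [CommRing S] {f : R →+* S} (hf : f.IsStandardSmooth) :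
    ∃ n, f.IsStandardSmoothOfRelativeDimension n := by
  algebraize [f]
  obtain ⟨ι, σ, _, _, ⟨P⟩⟩ := (‹Algebra.IsStandardSmooth R S›).out
  exact ⟨P.dimension, ⟨ι, σ, ‹_›, ‹_›, P, rfl⟩⟩

/-- A standard smooth chart over a given affine open of the base, inside a given affine open of the source. -/
theorem exists_chart {X S : Scheme.{u}} (h : X ⟶ S) [Smooth h] (x : X) {W : S.Opens} (hW : IsAffineOpen W)
    (hxW : h.base x ∈ W) {U₀ : X.Opens} (hU₀ : IsAffineOpen U₀) (hx : x ∈ U₀) :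
    ∃ (n : ℕ) (U : X.Opens) (_ : IsAffineOpen U) (_ : U ≤ U₀) (_ : x ∈ U) (e : U ≤ h ⁻¹ᵁ W),
      (h.appLE W U e).hom.IsStandardSmoothOfRelativeDimension n := by
  obtain ⟨W', hW', U', hU', hx', e', hf'⟩ := Smooth.exists_isStandardSmooth h x
  obtain ⟨n, hn⟩ := exists_relDim hf'
  obtain ⟨r, s, hxs, e₁, hf₁⟩ := exists_basicOpen_le_appLE_of_appLE_of_isAffine
    (RingHom.isStandardSmoothOfRelativeDimension_stableUnderCompositionWithLocalizationAway n).right
    (RingHom.isStandardSmoothOfRelativeDimension_localizationPreserves n).away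
    x ⟨W, hW⟩ ⟨W', hW'⟩ ⟨U₀, hU₀⟩ ⟨U', hU'⟩ hx hx' e' hn hxW
  have e : X.basicOpen s ≤ h ⁻¹ᵁ W := le_trans e₁ (h.preimage_mono (S.basicOpen_le r))
  have heq : h.appLE W (X.basicOpen s) e = CommRingCat.ofHom (algebraMap Γ(S, W) Γ(S, S.basicOpen r)) ≫
      h.appLE (S.basicOpen r) (X.basicOpen s) e₁ := by
    rw [RingHom.algebraMap_toAlgebra, CommRingCat.ofHom_hom, Scheme.Hom.map_appLE]
  refine ⟨n, X.basicOpen s, hU₀.basicOpen s, X.basicOpen_le s, hxs, e, heq ▸ ?_⟩
  have : IsLocalization.Away r Γ(S, S.basicOpen r) := hW.isLocalization_basicOpen r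
  exact (RingHom.isStandardSmoothOfRelativeDimension_stableUnderCompositionWithLocalizationAway n).left
    _ r _ hf₁

/-- The fibre dimension in a standard smooth chart is its relative dimension. -/
theorem fibreDimAt_eq {n : ℕ} {X Y : Scheme.{u}} (f : X ⟶ Y) [LocallyOfFiniteType f] (x : X) {U : Y.Opens}
    (hU : IsAffineOpen U) {V : X.Opens} (hV : IsAffineOpen V) (hxV : x ∈ V) (e : V ≤ f ⁻¹ᵁ U)
    (hf : (f.appLE U V e).hom.IsStandardSmoothOfRelativeDimension n) :
    FlatMor.fibreDimAt f x = (n : WithBot ℕ∞) := by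
  obtain ⟨g, hg, hget⟩ := hf.exists_etale_mvPolynomial
  let a : Spec Γ(X, V) ⟶ Spec (CommRingCat.of (MvPolynomial (Fin n) Γ(Y, U))) := Spec.map (CommRingCat.ofHom g)
  let π : Spec (CommRingCat.of (MvPolynomial (Fin n) Γ(Y, U))) ⟶ Spec Γ(Y, U) :=
    Spec.map (CommRingCat.ofHom (algebraMap Γ(Y, U) (MvPolynomial (Fin n) Γ(Y, U))))
  have haπ : a ≫ π = Spec.map (f.appLE U V e) := by
    rw [← Spec.map_comp]
    exact congrArg Spec.map (CommRingCat.hom_ext hg)
  haveI : Etale a := (HasRingHomProperty.Spec_iff (P := @Etale)).2 hget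
  haveI : LocallyOfFiniteType π := (HasRingHomProperty.Spec_iff (P := @LocallyOfFiniteType)).2
    (RingHom.finiteType_algebraMap.2 inferInstance)
  have hcomp : hV.fromSpec ≫ f = (a ≫ π) ≫ hU.fromSpec := by
    rw [haπ]; exact (IsAffineOpen.SpecMap_appLE_fromSpec f hU hV e).symm
  obtain ⟨t, rfl⟩ : ∃ t, hV.fromSpec t = x := ⟨_, hV.fromSpec_primeIdealOf ⟨x, hxV⟩⟩
  refine (FibDim14.fibreDimAt_etale_comp hV.fromSpec f _).symm.trans ?_
  simp only [hcomp]
  rw [FibDim14.fibreDimAt_comp_lqf, FibDim14.fibreDimAt_etale_comp, FibGen4.fibreDimAt_affineSpace]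

end Groth.Agent.StdSmooth5
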